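import Cfsg.Agent.H0.Tr
import Cfsg.Agent.H0.TT
import Cfsg.Agent.H0.XsC
import Cfsg.Agent.H0.MJ2p.D
set_option maxRecDepth 100000
set_option Elab.async false
set_option linter.unusedSectionVars false
namespace H0.EJ2Z
open H0 BN 
noncomputable def zO3 : ℕ := (ival 0 100)
noncomputable def zO2 : ℕ := (bitsL [1, 2, 5, 6, 7, 9, 10, 11, 14, 20, 28, 34, 39, 40, 42, 43, 50, 53, 61, 67, 68, 71, 74, 76, 78, 81, 82, 84, 85, 86, 87, 90, 92, 94, 96, 97])
noncomputable def zO1 : ℕ := (bitsL [0, 3, 8, 12, 16, 17, 18, 25, 26, 27, 29, 30, 31, 32, 33, 35, 36, 37, 41, 44, 45, 46, 56, 57, 58, 59, 60, 62, 63, 64, 65, 66, 75, 77, 79, 80, 88, 89, 91, 95, 98, 99])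
noncomputable def zO0 : ℕ := (bitsL [9, 10, 76, 81])
noncomputable def n13 : Net := (Net.cons (nat_lit 64) (nat_lit 0xf048ab42638d4042) (Net.cons (nat_lit 32) (nat_lit 0x1051a100000000005945faf1) (Net.cons (nat_lit 16) (nat_lit 0x40110000579a0000e49000007089) (Net.cons (nat_lit 8) (nat_lit 0xb000a8003600c8006400fa00130011) (Net.cons (nat_lit 4) (nat_lit 0x90408050203000d060c0c0103030c) (Net.cons (nat_lit 2) (nat_lit 0x320010333021030020322000200020) (Net.cons (nat_lit 1) (nat_lit 0x410440155440011441401141110140) (Net.cons (nat_lit 2) (nat_lit 0x220220200200022000202000020000) (Net.cons (nat_lit 4) (nat_lit 0x40008080c0408060e0808000204) (Net.cons (nat_lit 8) (nat_lit 0xb000a800280024002400b8009a0030) (Net.cons (nat_lit 16) (nat_lit 0xe0500000a4120000f812000071a8) (Net.cons (nat_lit 32) (nat_lit 0x59a1000000000051d7aad0) (Net.cons (nat_lit 64) (nat_lit 0xf048ab404148a068) Net.nil)))))))))))))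
noncomputable def n14 : Net := (Net.cons (nat_lit 64) (nat_lit 0xd4b11180a7c1d50) (Net.cons (nat_lit 32) (nat_lit 0x26c1a40000000000a0088e46) (Net.cons (nat_lit 16) (nat_lit 0x84180000d0640000c09400002be0) (Net.cons (nat_lit 8) (nat_lit 0x440000005e00be00a400a200b200f7) (Net.cons (nat_lit 4) (nat_lit 0xc09000005060b040008020c0c0b0a05) (Net.cons (nat_lit 2) (nat_lit 0x20020103131311233220203003002001) (Net.cons (nat_lit 1) (nat_lit 0x5041000000514105400440150155115) (Net.cons (nat_lit 2) (nat_lit 0x20000000022200200020000000000) (Net.cons (nat_lit 4) (nat_lit 0xc0000000006040400080c0c0c080804) (Net.cons (nat_lit 8) (nat_lit 0x440000004a00be00a400a200b20008) (Net.cons (nat_lit 16) (nat_lit 0x84180000d0640000409400002be0) (Net.cons (nat_lit 32) (nat_lit 0x26c1a40000000000a0088e06) (Net.cons (nat_lit 64) (nat_lit 0xd4b11180a7c1d50) Net.nil)))))))))))))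
noncomputable def n15 : Net := (Net.cons (nat_lit 64) (nat_lit 0x3a4861de0bc46710) (Net.cons (nat_lit 32) (nat_lit 0xb666e37400000000e4a257f8) (Net.cons (nat_lit 16) (nat_lit 0x6c4a000005d00000d01600008a6c) (Net.cons (nat_lit 8) (nat_lit 0xea00120098002800e4006b00bc00ca) (Net.cons (nat_lit 4) (nat_lit 0x8060f040900000f01030e0d0b0e0800) (Net.cons (nat_lit 2) (nat_lit 0x20023222330212332001230220020220) (Net.cons (nat_lit 1) (nat_lit 0x444001550101000051450544515405) (Net.cons (nat_lit 2) (nat_lit 0x220002000202000000200002020200) (Net.cons (nat_lit 4) (nat_lit 0x8000400000000000000080c040e0800) (Net.cons (nat_lit 8) (nat_lit 0xe800100098002800e400a000bc00ca) (Net.cons (nat_lit 16) (nat_lit 0xee48000005d00000100000008a6c) (Net.cons (nat_lit 32) (nat_lit 0xa666e33400000000e4a257f8) (Net.cons (nat_lit 64) (nat_lit 0x3a4861de8fc62600) Net.nil)))))))))))))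
noncomputable def n16 : Net := (Net.cons (nat_lit 64) (nat_lit 0x742072569c894084) (Net.cons (nat_lit 32) (nat_lit 0x9069904000000000283ee404) (Net.cons (nat_lit 16) (nat_lit 0x3040000007840000a384000099e6) (Net.cons (nat_lit 8) (nat_lit 0x2800e200a8002400a600470005008e) (Net.cons (nat_lit 4) (nat_lit 0xc0202040200030200080a0a00020902) (Net.cons (nat_lit 2) (nat_lit 0x30000030200013002222010300200222) (Net.cons (nat_lit 1) (nat_lit 0x4011051100414050401014404440401) (Net.cons (nat_lit 2) (nat_lit 0x200202000002000200020202) (Net.cons (nat_lit 4) (nat_lit 0xc020204000004020008020a000c0002) (Net.cons (nat_lit 8) (nat_lit 0x2800a200a8002400a600600004008e) (Net.cons (nat_lit 16) (nat_lit 0x3040000007840000a384000099e6) (Net.cons (nat_lit 32) (nat_lit 0x9069900000000000282ee404) (Net.cons (nat_lit 64) (nat_lit 0x74207256948b4080) Net.nil)))))))))))))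
noncomputable def n17 : Net := (Net.cons (nat_lit 64) (nat_lit 0x9b993d90f806fb44) (Net.cons (nat_lit 32) (nat_lit 0x497a744f0000000044844ae8) (Net.cons (nat_lit 16) (nat_lit 0x276e000025370000846400007a6f) (Net.cons (nat_lit 8) (nat_lit 0xc000580007002100a000aa00a0009c) (Net.cons (nat_lit 4) (nat_lit 0x80c050b0c0e0b0200040a080701020b) (Net.cons (nat_lit 2) (nat_lit 0x11020320021202030020200130212033) (Net.cons (nat_lit 1) (nat_lit 0x10440441410011040040044140104405) (Net.cons (nat_lit 2) (nat_lit 0x20020002200022000020000020002000) (Net.cons (nat_lit 4) (nat_lit 0xc0408060c02020004040802000008) (Net.cons (nat_lit 8) (nat_lit 0x400000002e0038002000a0008400d0) (Net.cons (nat_lit 16) (nat_lit 0x3fa600002e3a000084640000ea6a) (Net.cons (nat_lit 32) (nat_lit 0x53734c4a0000000044c208a0) (Net.cons (nat_lit 64) (nat_lit 0x9b993d99d826a148) Net.nil)))))))))))))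
noncomputable def n18 : Net := (Net.cons (nat_lit 64) (nat_lit 0x1007ab1e6e935c9) (Net.cons (nat_lit 32) (nat_lit 0x86aa6d8000000007632ac44) (Net.cons (nat_lit 16) (nat_lit 0x4b8000005909000088820000ec00) (Net.cons (nat_lit 8) (nat_lit 0x40002400a4000200a800810051007c) (Net.cons (nat_lit 4) (nat_lit 0x4080e000d0405010a0e000004030f04) (Net.cons (nat_lit 2) (nat_lit 0x2220023202202232021210103212233) (Net.cons (nat_lit 1) (nat_lit 0x4404144114104040044040104404041) (Net.cons (nat_lit 2) (nat_lit 0x222200202020002000202002002) (Net.cons (nat_lit 4) (nat_lit 0x4000e00080c0402080e0800040e0c04) (Net.cons (nat_lit 8) (nat_lit 0x48000800a8002200a20004000000d8) (Net.cons (nat_lit 16) (nat_lit 0x43c200007908000088800000ec00) (Net.cons (nat_lit 32) (nat_lit 0x86ad4f8000000006c8cac0c) (Net.cons (nat_lit 64) (nat_lit 0x1007ab3f5c45dc4) Net.nil)))))))))))))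
noncomputable def n19 : Net := (Net.cons (nat_lit 64) (nat_lit 0x3c0000703c4000) (Net.cons (nat_lit 32) (nat_lit 0x3f00000000000008187f120) (Net.cons (nat_lit 16) (nat_lit 0x3c00000780500000ecc00000e80) (Net.cons (nat_lit 8) (nat_lit 0xc00b800e8007200ae001e0080) (Net.cons (nat_lit 4) (nat_lit 0xc000c0807080a080c0508080d0602) (Net.cons (nat_lit 2) (nat_lit 0x300303301220230231003130130200) (Net.cons (nat_lit 1) (nat_lit 0x5501110440150005001141001) (Net.cons (nat_lit 2) (nat_lit 0x20200000000002020000) (Net.cons (nat_lit 4) (nat_lit 0xc000c080c0802080c000808020202) (Net.cons (nat_lit 8) (nat_lit 0xc00b800e80072002c001e0000) (Net.cons (nat_lit 16) (nat_lit 0x3c00000d00000000ecc00000e80) (Net.cons (nat_lit 32) (nat_lit 0x3f000000000000000057120) (Net.cons (nat_lit 64) (nat_lit 0x3c0000703c4000) Net.nil)))))))))))))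
noncomputable def n20 : Net := (Net.cons (nat_lit 64) (nat_lit 0xd8241038b8077000) (Net.cons (nat_lit 32) (nat_lit 0x8b84c00c00000000ba9c9284) (Net.cons (nat_lit 16) (nat_lit 0x429000001a6c00009f1400000738) (Net.cons (nat_lit 8) (nat_lit 0x40006000a0004800c40058000d00f8) (Net.cons (nat_lit 4) (nat_lit 0x9060a0e0a0208040e0a0a0400000b0a) (Net.cons (nat_lit 2) (nat_lit 0x120222202030220222200302022000) (Net.cons (nat_lit 1) (nat_lit 0x41001100500415401054500444441) (Net.cons (nat_lit 2) (nat_lit 0x20002200000220202000000020200) (Net.cons (nat_lit 4) (nat_lit 0x60a0a080208040e0a0a040000040a) (Net.cons (nat_lit 8) (nat_lit 0x40006000a0004800c40048000c00f8) (Net.cons (nat_lit 16) (nat_lit 0x429000001a6c00009f1400000738) (Net.cons (nat_lit 32) (nat_lit 0x8b84c00c00000000ba9c9284) (Net.cons (nat_lit 64) (nat_lit 0xd8241038b8077000) Net.nil)))))))))))))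
noncomputable def n21 : Net := (Net.cons (nat_lit 64) (nat_lit 0xbdd1fd3861c5406b) (Net.cons (nat_lit 32) (nat_lit 0xeeaa894700000000dfbe6d06) (Net.cons (nat_lit 16) (nat_lit 0x1eb20000a0c60000bf62000012e1) (Net.cons (nat_lit 8) (nat_lit 0xed005d003800080092005100ea003a) (Net.cons (nat_lit 4) (nat_lit 0x207060e000c08070e000e0b0e000800) (Net.cons (nat_lit 2) (nat_lit 0x12032311001213023002020200010200) (Net.cons (nat_lit 1) (nat_lit 0x1440441005050414404410414011001) (Net.cons (nat_lit 2) (nat_lit 0x220202000000000000220202002000) (Net.cons (nat_lit 4) (nat_lit 0x200080c0004060a04040e0406060000) (Net.cons (nat_lit 8) (nat_lit 0xec00d4002800a800d0005800ca0038) (Net.cons (nat_lit 16) (nat_lit 0xc7c0000025520000b0e0000010ac) (Net.cons (nat_lit 32) (nat_lit 0x56bb984a00000000ddb06f8c) (Net.cons (nat_lit 64) (nat_lit 0xbdd1fd30017a8e38) Net.nil)))))))))))))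
noncomputable def n22 : Net := (Net.cons (nat_lit 64) (nat_lit 0xeb4ce3ec7722729f) (Net.cons (nat_lit 32) (nat_lit 0xb4fe76e3000000004ae9e76b) (Net.cons (nat_lit 16) (nat_lit 0x29a8000020300000af9c0000b800) (Net.cons (nat_lit 8) (nat_lit 0x44002f0093004100a000c2008200b4) (Net.cons (nat_lit 4) (nat_lit 0x807060306000c04060e040d03000f) (Net.cons (nat_lit 2) (nat_lit 0x32303021000300033032300310032020) (Net.cons (nat_lit 1) (nat_lit 0x4444440014541444114541501041040) (Net.cons (nat_lit 2) (nat_lit 0x2020220002022022002000000022020) (Net.cons (nat_lit 4) (nat_lit 0x40c0e0202040004040c060604020004) (Net.cons (nat_lit 8) (nat_lit 0xe000c000b2004000a800d800820030) (Net.cons (nat_lit 16) (nat_lit 0x3f480000a8300000f9ce0000bc00) (Net.cons (nat_lit 32) (nat_lit 0xd4be5780000000004a4bff74) (Net.cons (nat_lit 64) (nat_lit 0xeb4ce3e478ab0408) Net.nil)))))))))))))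
noncomputable def n23 : Net := (Net.cons (nat_lit 64) (nat_lit 0x39a22f9e9619ad6e) (Net.cons (nat_lit 32) (nat_lit 0xf1a7624b00000000e621be3d) (Net.cons (nat_lit 16) (nat_lit 0xb5eb00001282000024110000d878) (Net.cons (nat_lit 8) (nat_lit 0x100170020002b004e00f0001b009c) (Net.cons (nat_lit 4) (nat_lit 0xc00070b0408010e0c060c0200060405) (Net.cons (nat_lit 2) (nat_lit 0x20032200121000102011001000130022) (Net.cons (nat_lit 1) (nat_lit 0x455101011011410401401504440415) (Net.cons (nat_lit 2) (nat_lit 0x202002002200000200002020020) (Net.cons (nat_lit 4) (nat_lit 0x8040808040000040c000c0c0c040004) (Net.cons (nat_lit 8) (nat_lit 0x600380084002a00ea005c0084) (Net.cons (nat_lit 16) (nat_lit 0xb46800002fb80000063800009978) (Net.cons (nat_lit 32) (nat_lit 0xe9a746cc00000000623dee18) (Net.cons (nat_lit 64) (nat_lit 0x39a22f9eb8388b74) Net.nil)))))))))))))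
noncomputable def n24 : Net := (Net.cons (nat_lit 64) (nat_lit 0x85c7fdb8c0eddfc9) (Net.cons (nat_lit 32) (nat_lit 0x4d7dcb2d0000000034f10409) (Net.cons (nat_lit 16) (nat_lit 0x13a50000da7d000010740000987c) (Net.cons (nat_lit 8) (nat_lit 0xe000ed003b0042004c00160072008d) (Net.cons (nat_lit 4) (nat_lit 0x3050a0606020e080008000d050e0501) (Net.cons (nat_lit 2) (nat_lit 0x31030032100111000201002121220222) (Net.cons (nat_lit 1) (nat_lit 0x51010545544401040444001115141401) (Net.cons (nat_lit 2) (nat_lit 0x2020000000202020000002020020202) (Net.cons (nat_lit 4) (nat_lit 0xc0802080a020a080008000a040c0208) (Net.cons (nat_lit 8) (nat_lit 0xa6006000120040004c0004007000be) (Net.cons (nat_lit 16) (nat_lit 0x1e320000fbb80000167c00004044) (Net.cons (nat_lit 32) (nat_lit 0x4cbe7f200000000034d1040c) (Net.cons (nat_lit 64) (nat_lit 0x85c7fdba5f62814e) Net.nil)))))))))))))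
noncomputable def n25 : Net := (Net.cons (nat_lit 64) (nat_lit 0x8bc790260ce2cea8) (Net.cons (nat_lit 32) (nat_lit 0x3ead36a100000000128e3d07) (Net.cons (nat_lit 16) (nat_lit 0x200a00009b8d0000529400006d0f) (Net.cons (nat_lit 8) (nat_lit 0x8d00a60047008a003200bd00b500fc) (Net.cons (nat_lit 4) (nat_lit 0xe0604080100080404020e00010d0006) (Net.cons (nat_lit 2) (nat_lit 0x32021023011002221200310210130202) (Net.cons (nat_lit 1) (nat_lit 0x10451004440001410410501014455141) (Net.cons (nat_lit 2) (nat_lit 0x20202000020002220200000000200200) (Net.cons (nat_lit 4) (nat_lit 0x60606000000080c040002020008020e) (Net.cons (nat_lit 8) (nat_lit 0x840080004e0008002400a4009400fc) (Net.cons (nat_lit 16) (nat_lit 0x30220000d2c8000060900000850e) (Net.cons (nat_lit 32) (nat_lit 0x3da926880000000066865d88) (Net.cons (nat_lit 64) (nat_lit 0x8bc790268c63e6a8) Net.nil)))))))))))))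
noncomputable def n26 : Net := (Net.cons (nat_lit 64) (nat_lit 0x82960f1a243b2ea3) (Net.cons (nat_lit 32) (nat_lit 0xe92f45de00000000564598a9) (Net.cons (nat_lit 16) (nat_lit 0x3b6000030c400003d8000007bb4) (Net.cons (nat_lit 8) (nat_lit 0xf000a002400e7000000210083003b) (Net.cons (nat_lit 4) (nat_lit 0x8080400040606070400020202040909) (Net.cons (nat_lit 2) (nat_lit 0x23000031301001220021000113313320) (Net.cons (nat_lit 1) (nat_lit 0x44010111100045411400050044014100) (Net.cons (nat_lit 2) (nat_lit 0x2020000200020020200000022002000) (Net.cons (nat_lit 4) (nat_lit 0x404000606000200000a0e00) (Net.cons (nat_lit 8) (nat_lit 0x840004002000640000002000940022) (Net.cons (nat_lit 16) (nat_lit 0x3b0000030d00000358000009aae) (Net.cons (nat_lit 32) (nat_lit 0x692f45d8000000001f4d0806) (Net.cons (nat_lit 64) (nat_lit 0x82960f1548303724) Net.nil)))))))))))))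
noncomputable def n27 : Net := (Net.cons (nat_lit 64) (nat_lit 0xd8241038b8077000) (Net.cons (nat_lit 32) (nat_lit 0x8b84c00c00000000ba9c9284) (Net.cons (nat_lit 16) (nat_lit 0x429000001a6c00009f1400000738) (Net.cons (nat_lit 8) (nat_lit 0x40006000a0004800c40058000d00f8) (Net.cons (nat_lit 4) (nat_lit 0x9060a0e0a0208040e0a0a0400000b0a) (Net.cons (nat_lit 2) (nat_lit 0x120222202030220222200302022000) (Net.cons (nat_lit 1) (nat_lit 0x41001100500415401054500444441) (Net.cons (nat_lit 2) (nat_lit 0x20002200000220202000000020200) (Net.cons (nat_lit 4) (nat_lit 0x60a0a080208040e0a0a040000040a) (Net.cons (nat_lit 8) (nat_lit 0x40006000a0004800c40048000c00f8) (Net.cons (nat_lit 16) (nat_lit 0x429000001a6c00009f1400000738) (Net.cons (nat_lit 32) (nat_lit 0x8b84c00c00000000ba9c9284) (Net.cons (nat_lit 64) (nat_lit 0xd8241038b8077000) Net.nil)))))))))))))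
noncomputable def n28 : Net := (Net.cons (nat_lit 64) (nat_lit 0x3be5389cdc54e5ec) (Net.cons (nat_lit 32) (nat_lit 0x575369400000000889e0628) (Net.cons (nat_lit 16) (nat_lit 0x2a000000894300008f3c0000b649) (Net.cons (nat_lit 8) (nat_lit 0x280092003300e000c2009e00ca00b1) (Net.cons (nat_lit 4) (nat_lit 0x10b0a0b000d0d060008080009020b0f) (Net.cons (nat_lit 2) (nat_lit 0x1012201203120100100320120101220) (Net.cons (nat_lit 1) (nat_lit 0x10010410004514510040140411404441) (Net.cons (nat_lit 2) (nat_lit 0x20220002020020020220020202200) (Net.cons (nat_lit 4) (nat_lit 0x202000a00020c04000c080808020806) (Net.cons (nat_lit 8) (nat_lit 0x38009c009a00b00040009e00c800c6) (Net.cons (nat_lit 16) (nat_lit 0x10000000a88e0000cf3000001460) (Net.cons (nat_lit 32) (nat_lit 0x2db0069800000000c8860400) (Net.cons (nat_lit 64) (nat_lit 0x3be53896cc76efe4) Net.nil)))))))))))))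
noncomputable def nl2 : List Net := [n13, n14, n15, n16, n17, n18, n19, n20, n21, n22, n23, n24, n25, n26, n27, n28]
theorem nl2_ok : allL (Net.ok (nat_lit 128)) nl2 = true := by decide +kernel
noncomputable def nl : List Net := [H0.MJ2p.n0, H0.MJ2p.n1, H0.MJ2p.n2, H0.MJ2p.n3, H0.MJ2p.n4, H0.MJ2p.n5, H0.MJ2p.n6, H0.MJ2p.n7, H0.MJ2p.n8, H0.MJ2p.n9, H0.MJ2p.n10, H0.MJ2p.n11, H0.MJ2p.n12, n13, n14, n15, n16, n17, n18, n19, n20, n21, n22, n23, n24, n25, n26, n27, n28]
theorem nl_ok : allL (Net.ok (nat_lit 128)) nl = true := allL_append H0.MJ2p.nl_ok nl2_ok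
noncomputable def R : Rep := mkRep (nat_lit 7) (nat_lit 128) nl (by decide +kernel) nl_ok
def defs : List (List ℕ) := [[0, 1, 0, 1, 0, 1, 1, 0, 1, 1, 0, 1, 1, 3, 5, 3, 3, 5, 3, 3, 3, 8, 6, 6], [1, 1, 3, 3, 5, 3, 5, 3, 3, 3, 6, 8, 8, 6], [1, 1, 5, 3, 3, 3, 3, 5, 3, 5, 3, 6], [1, 5, 3, 5, 3, 3, 3, 8, 6, 6, 10, 10], [1, 0, 1, 0, 1, 1, 0, 1, 0, 1, 0, 1, 0, 1, 1, 3, 3, 5, 3, 6, 6, 10, 10], [1, 1, 0, 1, 1, 0, 1, 1, 0, 5, 3, 5, 3, 5, 3, 3, 6, 8, 6, 10, 10], [0, 1, 1, 0, 1, 1, 0, 5, 3, 3, 3, 3, 5, 3, 5, 3, 8, 8, 8, 6, 10], [0, 1, 0, 1, 1, 0, 1, 1, 0, 1, 1, 3, 3, 5, 6, 6, 8, 8, 10, 10], [11, 10, 4, 1], [8, 6, 1, 1], [22, 22, 21, 21, 22, 22, 21], [22, 21, 21, 22, 21, 21, 22, 22], [24, 24, 24, 24, 24, 24, 23, 23], [24, 23, 23, 23, 24, 23, 23, 24], [25, 26, 26, 25, 25], [26, 25, 25, 26, 25]]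
def qch : List Model.Lev := [(0, [[16], [17], [18], [20]], 16), (2, [[17, 19]], 2)]
def qW : List (List (List ℕ)) := [[[], [17], [18, 20], [19, 20], [20]], [[20], [18], [19, 20], [20]], [[20], [19], [20]], [[], [20]], [[]]]
def zch : List Model.Lev := [(38, [[21], [22]], 100), (68, [[23], [24]], 36), (65, [[25], [26]], 42), (76, [[27], [28]], 4)]
def zCg : List (List ℕ) := [[13], [17, 14, 13, 15, 14, 13, 15], [15, 13, 14, 13], [16, 19, 14, 15, 13], [20, 15, 14], [17, 18, 19, 20, 15, 14], [16, 17, 18, 20, 14, 15, 14], [16, 18, 19, 20], [19, 20], [16, 18, 19]]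
def zc20 : List ℕ := [76]
noncomputable def zD2 : ℕ := Nat.xor (ival 0 100) (bitsL [1, 4, 5, 23, 30, 34, 38, 40, 42, 47, 61, 65, 68, 70, 71, 72, 74, 84, 90, 94])
def zc23 : List ℕ := [65]
noncomputable def zD1 : ℕ := Nat.xor (ival 0 100) (bitsL [1, 4, 5, 23, 30, 34, 38, 40, 42, 47, 61, 65, 68, 70, 71, 72, 74, 84, 90, 94])
def zc26 : List ℕ := [68]
noncomputable def zD0 : ℕ := Nat.xor (ival 0 100) (bitsL [1, 4, 5, 23, 30, 34, 38, 40, 42, 47, 61, 65, 68, 70, 71, 72, 74, 84, 90, 94])
def zc29 : List ℕ := [38]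
noncomputable def zOT : OTab := [([65, 68, 38], zO0), ([68, 38], zO1), ([38], zO2), ([], zO3)]
def qT : List (List ℕ) := [[0, 0, 1, 1], [0, 1, 0, 1], [1, 0, 1, 0], [1, 1, 0, 0]]
def qN : List (List (List ℕ)) := [[[19], [16, 17, 19], [16, 18, 19, 20], [17, 19, 20], [20]], [[17, 19, 20], [16, 17, 18], [16, 17, 18, 19], [17, 18, 20], [20]], [[17, 19, 20], [16, 19, 20], [18, 19, 20], [19], [20]]]
theorem c0 : pairsB R [1, 68, 37, 0] (((((altW 3).map (sh 13)).map fun r => (r, ([] : List ℕ))).drop 0).take 6) = true := by decide +kernel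
theorem c1 : neB R [13] [] 0 8 0 = true := by decide +kernel
theorem c2 : Model.fixP R [0] [[17, 19]] = true := by decide +kernel
theorem c3 : Model.growP R [[17, 19]] [0] 2 2 = true := by decide +kernel
theorem c4 : Model.fixP R [] [[16], [17], [18], [20]] = true := by decide +kernel
theorem c5 : Model.growP R [[16], [17], [18], [20]] [0, 1, 2, 3] 0 16 = true := by decide +kernel
theorem c6 : pairsB R [1, 68, 37, 0] (((pcE 2 [16, 17, 18, 19, 20] qW).drop 0).take 15) = true := by decide +kernel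
theorem c7 : Model.fixP R [65, 68, 38] [[27], [28]] = true := by decide +kernel
theorem c8 : Model.growP R [[27], [28]] [0, 1] 76 4 = true := by decide +kernel
theorem c9 : Model.fixP R [68, 38] [[25], [26]] = true := by decide +kernel
theorem c10 : Model.growP R [[25], [26]] [0, 0, 1, 0, 1, 0, 1, 0, 1, 0, 0] 65 42 = true := by decide +kernel
theorem c11 : Model.fixP R [38] [[23], [24]] = true := by decide +kernel
theorem c12 : Model.growP R [[23], [24]] [0, 1, 0, 1, 0, 1, 0, 0, 1] 68 36 = true := by decide +kernel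
theorem c13 : Model.fixP R [] [[21], [22]] = true := by decide +kernel
theorem c14 : Model.growP R [[21], [22]] [0, 1, 0, 1, 0, 1, 0, 1, 0, 0, 0, 0] 38 100 = true := by decide +kernel
theorem c15 : cycB R (subst [[20]] []) [38] = true := by decide +kernel
theorem c16 : cycB R (subst [[20]] []) [68] = true := by decide +kernel
theorem c17 : cycB R (subst [[20]] []) [65] = true := by decide +kernel
theorem c18 : cycB R (subst [[20]] []) [76] = true := by decide +kernel
theorem c19 : cycB R (subst [[20]] []) [76] = true := by decide +kernel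
theorem c20 : freeB R zOT [[20]] zCg [0, 1, 2] [65, 68, 38] [65, 68, 38] [] 76 0 [([], 76, 0)] [[9], [9]] [0, 0, 0] zc20 = true := by decide +kernel
theorem c21 : cycB R (subst [[20]] []) [65] = true := by decide +kernel
theorem c22 : exclB R (subst [[20]] [0]) 65 zD2 = true := by decide +kernel
theorem c23 : freeB R zOT [[20]] zCg [0, 1] [68, 38] [68, 38] [] 65 zD2 [([], 65, 1)] [[7], [8], [8]] [1] zc23 = true := by decide +kernel
theorem c24 : cycB R (subst [[20]] []) [68] = true := by decide +kernel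
theorem c25 : exclB R (subst [[20]] [0]) 68 zD1 = true := by decide +kernel
theorem c26 : freeB R zOT [[20]] zCg [0] [38] [38] [] 68 zD1 [([], 68, 2)] [[5], [6]] [0, 1, 0, 1, 0] zc26 = true := by decide +kernel
theorem c27 : cycB R (subst [[20]] []) [38] = true := by decide +kernel
theorem c28 : exclB R (subst [[20]] [0]) 38 zD0 = true := by decide +kernel
theorem c29 : freeB R zOT [[20]] zCg [] [] [] [] 38 zD0 [([], 38, 3)] [[3], [4]] [0, 0, 1, 0, 1, 0, 1, 0] zc29 = true := by decide +kernel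
theorem c30 : Model.invB R (Model.cgens (zch.drop 0)) zO3 = true := by decide +kernel
theorem c31 : Model.invB R (Model.cgens (zch.drop 1)) zO2 = true := by decide +kernel
theorem c32 : Model.invB R (Model.cgens (zch.drop 2)) zO1 = true := by decide +kernel
theorem c33 : Model.invB R (Model.cgens (zch.drop 3)) zO0 = true := by decide +kernel
theorem c34 : pairsB R [1, 68, 37, 0] (((zCg.flatMap fun w => [[20]].map fun y => (w ++ y, y ++ w)).drop 0).take 10) = true := by decide +kernel
theorem c35 : pairsB R [1, 68, 37, 0] (((xsE [16, 17, 18, 19] 20 qT).drop 0).take 21) = true := by decide +kernel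
theorem c36 : (pcOK ([16, 17, 18, 19] ++ [20]) qW && [16, 17, 18, 19].contains 16 && ne2 R 0 [20] [] && ne2 R 0 [16] [] && ne2 R 0 [16] [20]) = true := by decide +kernel
theorem c37 : ctrB R 0 [16, 17, 18, 19] 20 (nfW 2 ([16, 17, 18, 19] ++ [20])) = true := by decide +kernel
theorem c38 : pairsB R [1, 68, 37, 0] (([([20], [0, 1, 0, 1, 1, 0, 1, 1, 0, 1, 1, 3, 3, 5, 6, 6, 8, 8, 10, 10])].drop 0).take 1) = true := by decide +kernel
theorem c39 : pairsB R [1, 68, 37, 0] (((cmE 20 ((([16, 17, 18, 19] ++ [20]) ++ [13, 14, 15]).map fun x => [x])).drop 0).take 8) = true := by decide +kernel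
theorem c40 : pairsB R [1, 68, 37, 0] (((nrmE ([16, 17, 18, 19] ++ [20]) [13, 14, 15] qN).drop 0).take 15) = true := by decide +kernel
theorem c41 : defsChk R defs 13 = true := by decide +kernel
end H0.EJ2Z
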