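import Cfsg.Agent.H0.EJ2Z.D
set_option maxRecDepth 100000
set_option Elab.async false
set_option linter.unusedSectionVars false
namespace H0.EJ2Z
open H0 BN 
theorem defs_ok : DefsOK R.p defs 13 := defsOK_of_chk c41
universe u
variable {G : Type u} [Group G] [Finite G] (m0 : Model G) (h0 : m0.R = H0.MJ2p.R)
noncomputable def m : Model G := m0.ext (lg := nat_lit 7) (N := nat_lit 128) (l := H0.MJ2p.nl) h0 nl nl_ok 13 rfl defs defs_ok (by decide +kernel)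
theorem mR : (m m0 h0).R = R := rfl
variable (hb : m0.pst [1, 68, 37, 0] = ⊥) (hc : Nat.card G = 604800)
include h0 hb hc
theorem base : (m m0 h0).pst [1, 68, 37, 0] = ⊥ := hb
omit hb hc in
theorem geq {x : ℕ} (h : x < 13) : (m m0 h0).g x = m0.g x := m0.ext_g h0 _ _ _ _ _ _ _ h
theorem K_iso : Nonempty (alternatingGroup (Fin (3 + 2)) ≃* gen (m m0 h0).g ((lets 3).map (sh 13))) :=
  alt_off _ 13 (all_take_done (all_take_step (all_take_zero _ (((altW 3).map (sh 13)).map fun r => (r, ([] : List ℕ)))) ((m m0 h0).pairs_of (base m0 h0 hb hc) (Model.via _ (mR m0 h0) (fun R => pairsB R [1, 68, 37, 0] (((((altW 3).map (sh 13)).map fun r => (r, ([] : List ℕ))).drop 0).take 6)) c0))) (by decide +kernel)) (by decide) ((m m0 h0).ne_of_neB (Model.via _ (mR m0 h0) (fun R => neB R [13] [] 0 8 0) c1))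
omit hb hc in
theorem qch_ok : (m m0 h0).ChainOK qch [] := ((m m0 h0).chain_cons [0, 1, 2, 3] (Model.via _ (mR m0 h0) (fun R => Model.fixP R [] [[16], [17], [18], [20]]) c4) (Model.via _ (mR m0 h0) (fun R => Model.growP R [[16], [17], [18], [20]] [0, 1, 2, 3] 0 16) c5) ((m m0 h0).chain_cons [0] (Model.via _ (mR m0 h0) (fun R => Model.fixP R [0] [[17, 19]]) c2) (Model.via _ (mR m0 h0) (fun R => Model.growP R [[17, 19]] [0] 2 2) c3) ((m m0 h0).chain_nil _)))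
theorem qE : ∀ e ∈ pcE 2 [16, 17, 18, 19, 20] qW, ev (m m0 h0).g e.1 = ev (m m0 h0).g e.2 := (all_take_done (all_take_step (all_take_zero _ (pcE 2 [16, 17, 18, 19, 20] qW)) ((m m0 h0).pairs_of (base m0 h0 hb hc) (Model.via _ (mR m0 h0) (fun R => pairsB R [1, 68, 37, 0] (((pcE 2 [16, 17, 18, 19, 20] qW).drop 0).take 15)) c6))) (by decide +kernel))
omit hb hc in
theorem qlow : 2 ^ [16, 17, 18, 19, 20].length ≤ Nat.card (gl (m m0 h0).g [16, 17, 18, 19, 20]) :=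
  (by decide +kernel : _ ≤ Model.cprod qch).trans ((m m0 h0).chain_card (qch_ok m0 h0) (gen_le fun w hw => mem_gl _ (List.all_eq_true.1 (by decide +kernel : (Model.cgens qch).all (·.all [16, 17, 18, 19, 20].contains) = true) w hw)))
omit hb hc in
theorem zch_ok : (m m0 h0).ChainOK zch [] := ((m m0 h0).chain_cons [0, 1, 0, 1, 0, 1, 0, 1, 0, 0, 0, 0] (Model.via _ (mR m0 h0) (fun R => Model.fixP R [] [[21], [22]]) c13) (Model.via _ (mR m0 h0) (fun R => Model.growP R [[21], [22]] [0, 1, 0, 1, 0, 1, 0, 1, 0, 0, 0, 0] 38 100) c14) ((m m0 h0).chain_cons [0, 1, 0, 1, 0, 1, 0, 0, 1] (Model.via _ (mR m0 h0) (fun R => Model.fixP R [38] [[23], [24]]) c11) (Model.via _ (mR m0 h0) (fun R => Model.growP R [[23], [24]] [0, 1, 0, 1, 0, 1, 0, 0, 1] 68 36) c12) ((m m0 h0).chain_cons [0, 0, 1, 0, 1, 0, 1, 0, 1, 0, 0] (Model.via _ (mR m0 h0) (fun R => Model.fixP R [68, 38] [[25], [26]]) c9) (Model.via _ (mR m0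 h0) (fun R => Model.growP R [[25], [26]] [0, 0, 1, 0, 1, 0, 1, 0, 1, 0, 0] 65 42) c10) ((m m0 h0).chain_cons [0, 1] (Model.via _ (mR m0 h0) (fun R => Model.fixP R [65, 68, 38] [[27], [28]]) c7) (Model.via _ (mR m0 h0) (fun R => Model.growP R [[27], [28]] [0, 1] 76 4) c8) ((m m0 h0).chain_nil _)))))
theorem ztop : gen (m m0 h0).g (Model.cgens zch) = ⊤ := (m m0 h0).chain_top (zch_ok m0 h0) (hc.trans (by decide +kernel))
theorem zbdd : (m m0 h0).Bdd := (m m0 h0).bdd_of_top (ztop m0 h0 hb hc)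
theorem zot : (m m0 h0).OTOK zOT := ((m m0 h0).otok_cons (zch_ok m0 h0) (hc.trans (by decide +kernel)) 3 rfl (Model.via _ (mR m0 h0) (fun R => Model.invB R (Model.cgens (zch.drop 3)) zO0) c33) ((m m0 h0).otok_cons (zch_ok m0 h0) (hc.trans (by decide +kernel)) 2 rfl (Model.via _ (mR m0 h0) (fun R => Model.invB R (Model.cgens (zch.drop 2)) zO1) c32) ((m m0 h0).otok_cons (zch_ok m0 h0) (hc.trans (by decide +kernel)) 1 rfl (Model.via _ (mR m0 h0) (fun R => Model.invB R (Model.cgens (zch.drop 1)) zO2) c31) ((m m0 h0).otok_cons (zch_ok m0 h0) (hc.trans (by decide +kernel)) 0 rfl (Model.via _ (mR m0 h0) (fun R => Model.invB R (Model.cgens (zch.drop 0)) zO3) c30) (m m0 h0).otok_nil))))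
theorem zcm : ∀ w ∈ zCg, (m m0 h0).Cm [[20]] (ev (m m0 h0).g w) := (m m0 h0).cm_of_pairs (all_take_done (all_take_step (all_take_zero _ (zCg.flatMap fun w => [[20]].map fun y => (w ++ y, y ++ w))) ((m m0 h0).pairs_of (base m0 h0 hb hc) (Model.via _ (mR m0 h0) (fun R => pairsB R [1, 68, 37, 0] (((zCg.flatMap fun w => [[20]].map fun y => (w ++ y, y ++ w)).drop 0).take 10)) c34))) (by decide +kernel))
theorem zn4 : (m m0 h0).Sol [[20]] zCg [76, 65, 68, 38] [76, 65, 68, 38] := (m m0 h0).sol_done [0, 1, 2, 3] (((m m0 h0).chain_bot (zch_ok m0 h0) (hc.trans (by decide +kernel))).le.trans bot_le) (by decide +kernel)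
theorem zn3 : (m m0 h0).Sol [[20]] zCg [65, 68, 38] [65, 68, 38] := (m m0 h0).sol_free (zbdd m0 h0 hb hc) (zcm m0 h0 hb hc) (zot m0 h0 hb hc) ((m m0 h0).excl_zero _ _) (Model.via _ (mR m0 h0) (fun R => freeB R zOT [[20]] zCg [0, 1, 2] [65, 68, 38] [65, 68, 38] [] 76 0 [([], 76, 0)] [[9], [9]] [0, 0, 0] zc20) c20) ((m m0 h0).solL_cons ((m m0 h0).sol_cyc [] (Bc := [76]) (T := [76]) rfl (Model.via _ (mR m0 h0) (fun R => cycB R (subst [[20]] []) [76]) c18) (Model.via _ (mR m0 h0) (fun R => cycB R (subst [[20]] []) [76]) c19) (zn4 m0 h0 hb hc)) (m m0 h0).solL_nil)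
theorem zn2 : (m m0 h0).Sol [[20]] zCg [68, 38] [68, 38] := (m m0 h0).sol_free (zbdd m0 h0 hb hc) (zcm m0 h0 hb hc) (zot m0 h0 hb hc) ((m m0 h0).excl_mov (zbdd m0 h0 hb hc) [0] (Model.via _ (mR m0 h0) (fun R => exclB R (subst [[20]] [0]) 65 zD2) c22)) (Model.via _ (mR m0 h0) (fun R => freeB R zOT [[20]] zCg [0, 1] [68, 38] [68, 38] [] 65 zD2 [([], 65, 1)] [[7], [8], [8]] [1] zc23) c23) ((m m0 h0).solL_cons ((m m0 h0).sol_cyc [] (Bc := [65]) (T := [65]) rfl (Model.via _ (mR m0 h0) (fun R => cycB R (subst [[20]] []) [65]) c17) (Model.via _ (mR m0 h0) (fun R => cycB R (subst [[20]] []) [65]) c21) (zn3 m0 h0 hb hc)) (m m0 h0).solL_nil)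
theorem zn1 : (m m0 h0).Sol [[20]] zCg [38] [38] := (m m0 h0).sol_free (zbdd m0 h0 hb hc) (zcm m0 h0 hb hc) (zot m0 h0 hb hc) ((m m0 h0).excl_mov (zbdd m0 h0 hb hc) [0] (Model.via _ (mR m0 h0) (fun R => exclB R (subst [[20]] [0]) 68 zD1) c25)) (Model.via _ (mR m0 h0) (fun R => freeB R zOT [[20]] zCg [0] [38] [38] [] 68 zD1 [([], 68, 2)] [[5], [6]] [0, 1, 0, 1, 0] zc26) c26) ((m m0 h0).solL_cons ((m m0 h0).sol_cyc [] (Bc := [68]) (T := [68]) rfl (Model.via _ (mR m0 h0) (fun R => cycB R (subst [[20]] []) [68]) c16) (Model.via _ (mR m0 h0) (fun R => cycB R (subst [[20]] []) [68]) c24) (zn2 m0 h0 hb hc)) (m m0 h0).solL_nil)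
theorem zn0 : (m m0 h0).Sol [[20]] zCg [] [] := (m m0 h0).sol_free (zbdd m0 h0 hb hc) (zcm m0 h0 hb hc) (zot m0 h0 hb hc) ((m m0 h0).excl_mov (zbdd m0 h0 hb hc) [0] (Model.via _ (mR m0 h0) (fun R => exclB R (subst [[20]] [0]) 38 zD0) c28)) (Model.via _ (mR m0 h0) (fun R => freeB R zOT [[20]] zCg [] [] [] [] 38 zD0 [([], 38, 3)] [[3], [4]] [0, 0, 1, 0, 1, 0, 1, 0] zc29) c29) ((m m0 h0).solL_cons ((m m0 h0).sol_cyc [] (Bc := [38]) (T := [38]) rfl (Model.via _ (mR m0 h0) (fun R => cycB R (subst [[20]] []) [38]) c15) (Model.via _ (mR m0 h0) (fun R => cycB R (subst [[20]] []) [38]) c27) (zn1 m0 h0 hb hc)) (m m0 h0).solL_nil)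
theorem zsol : (m m0 h0).Sol [[20]] zCg [] [] := zn0 m0 h0 hb hc
theorem xs : XS2 (gl (m m0 h0).g ([16, 17, 18, 19] ++ [20])) ((m m0 h0).g 20) := (m m0 h0).xs2 (qE m0 h0 hb hc) (all_take_done (all_take_step (all_take_zero _ (xsE [16, 17, 18, 19] 20 qT)) ((m m0 h0).pairs_of (base m0 h0 hb hc) (Model.via _ (mR m0 h0) (fun R => pairsB R [1, 68, 37, 0] (((xsE [16, 17, 18, 19] 20 qT).drop 0).take 21)) c35))) (by decide +kernel))
  (Model.via _ (mR m0 h0) (fun R => (pcOK ([16, 17, 18, 19] ++ [20]) qW && [16, 17, 18, 19].contains 16 && ne2 R 0 [20] [] && ne2 R 0 [16] [] && ne2 R 0 [16] [20])) c36) (Model.via _ (mR m0 h0) (fun R => ctrB R 0 [16, 17, 18, 19] 20 (nfW 2 ([16, 17, 18, 19] ++ [20]))) c37)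
theorem zeq : (m m0 h0).g 20 = ev m0.g [0, 1, 0, 1, 1, 0, 1, 1, 0, 1, 1, 3, 3, 5, 6, 6, 8, 8, 10, 10] :=
  (by simpa using (all_take_done (all_take_step (all_take_zero _ [([20], [0, 1, 0, 1, 1, 0, 1, 1, 0, 1, 1, 3, 3, 5, 6, 6, 8, 8, 10, 10])]) ((m m0 h0).pairs_of (base m0 h0 hb hc) (Model.via _ (mR m0 h0) (fun R => pairsB R [1, 68, 37, 0] (([([20], [0, 1, 0, 1, 1, 0, 1, 1, 0, 1, 1, 3, 3, 5, 6, 6, 8, 8, 10, 10])].drop 0).take 1)) c38))) (by decide +kernel)) _ List.mem_cons_self : (m m0 h0).g 20 = ev (m m0 h0).g [0, 1, 0, 1, 1, 0, 1, 1, 0, 1, 1, 3, 3, 5, 6, 6, 8, 8, 10, 10]).trans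
    (TC.ev_congr fun x hx => geq m0 h0 (List.all_eq_true.1 (by decide : [0, 1, 0, 1, 1, 0, 1, 1, 0, 1, 1, 3, 3, 5, 6, 6, 8, 8, 10, 10].all (fun x => decide (x < 13)) = true) x hx |> of_decide_eq_true))
theorem str : ∃ t : G, t = ev m0.g [0, 1, 0, 1, 1, 0, 1, 1, 0, 1, 1, 3, 3, 5, 6, 6, 8, 8, 10, 10] ∧ orderOf t = 2 ∧ ∃ Q K : Subgroup G, XS2 Q t ∧ Subgroup.centralizer {t} = Q ⊔ K ∧ K ≤ Subgroup.normalizer Q ∧ Nonempty (alternatingGroup (Fin (3 + 2)) ≃* K) ∧ Nat.card Q = 32 :=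
  ⟨_, zeq m0 h0 hb hc, (xs m0 h0 hb hc).oz, _, gl (m m0 h0).g [13, 14, 15], xs m0 h0 hb hc, cent_sup ((m m0 h0).cent_le (zsol m0 h0 hb hc)) (by decide +kernel) (all_take_done (all_take_step (all_take_zero _ (cmE 20 ((([16, 17, 18, 19] ++ [20]) ++ [13, 14, 15]).map fun x => [x]))) ((m m0 h0).pairs_of (base m0 h0 hb hc) (Model.via _ (mR m0 h0) (fun R => pairsB R [1, 68, 37, 0] (((cmE 20 ((([16, 17, 18, 19] ++ [20]) ++ [13, 14, 15]).map fun x => [x])).drop 0).take 8)) c39))) (by decide +kernel)),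
    gl_nrm (T := qN) (all_take_done (all_take_step (all_take_zero _ (nrmE ([16, 17, 18, 19] ++ [20]) [13, 14, 15] qN)) ((m m0 h0).pairs_of (base m0 h0 hb hc) (Model.via _ (mR m0 h0) (fun R => pairsB R [1, 68, 37, 0] (((nrmE ([16, 17, 18, 19] ++ [20]) [13, 14, 15] qN).drop 0).take 15)) c40))) (by decide +kernel)) (by decide +kernel), gl_sh (m m0 h0).g (off := 13) (k := 3) (ks := [13, 14, 15]) (by decide +kernel) ▸ K_iso m0 h0 hb hc,
    pcn_card two_pos (qE m0 h0 hb hc) (by decide +kernel) (qlow m0 h0)⟩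
end H0.EJ2Z
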